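import Cfsg.Agent.Lib.InvChar.CosetCert

/-!
# Checked rewriting of words in Coxeter groups with labels at most 3

A move deletes a repeated letter, swaps two commuting letters or applies a braid relation.
-/

set_option autoImplicit false

namespace CfsgLib.Trans3.Spider

open CfsgLib.InvChar.Coset

/-- Apply the move `kind` at position `p`; `lab` is the label of two letters. -/
def move (lab : ℕ → ℕ → ℕ) : ℕ → ℕ → List ℕ → Option (List ℕ)
  | 0, 1, x :: y :: w => if x = y then some w else none
  | 0, 2, x :: y :: w => if lab x y = 2 then some (y :: x :: w) else none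
  | 0, 3, x :: y :: z :: w => if x = z ∧ lab x y = 3 then some (y :: x :: y :: w) else none
  | p + 1, k, x :: w => (move lab p k w).map (x :: ·)
  | _, _, _ => none

/-- Apply a list of moves, each `4 * p + kind`. -/
def moves (lab : ℕ → ℕ → ℕ) : List ℕ → List ℕ → Option (List ℕ)
  | [], w => some w
  | m :: ms, w => (move lab (m / 4) (m % 4) w).bind (moves lab ms)

/-- Unpack `n` numbers of 12 bits. -/
def unpack12 : ℕ → ℕ → List ℕ
  | 0, _ => []
  | n + 1, s => (s % 4096) :: unpack12 n (s / 4096)

variable {G : Type*} [Group G] {s : ℕ → G} {lab : ℕ → ℕ → ℕ} (hs : ∀ x, s x * s x = 1)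
  (h2 : ∀ x y, lab x y = 2 → s x * s y = s y * s x)
  (h3 : ∀ x y, lab x y = 3 → s x * s y * s x = s y * s x * s y)
include hs h2 h3

theorem move_sound : ∀ (p k : ℕ) (w w' : List ℕ), move lab p k w = some w' → wprod s w = wprod s w' := by
  intro p
  induction p with
  | zero =>
    intro k w w' h
    unfold move at h
    split at h
    · split at h
      · simp only [Option.some.injEq] at h; subst h
        rename_i hxy; subst hxy
        simp [wprod, ← mul_assoc, hs]
      · simp at h
    · split at h
      · simp only [Option.some.injEq] at h; subst h
        rename_i hl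
        simp [wprod, ← mul_assoc, h2 _ _ hl]
      · simp at h
    · split at h
      · simp only [Option.some.injEq] at h; subst h
        rename_i hl
        obtain ⟨rfl, hl⟩ := hl
        simp [wprod, ← mul_assoc, h3 _ _ hl]
      · simp at h
    · omega
    · simp at h
  | succ p ih =>
    intro k w w' h
    cases w with
    | nil => simp [move] at h
    | cons x w =>
      simp only [move, Option.map_eq_some_iff] at h
      obtain ⟨v, hv, rfl⟩ := h
      have := ih _ _ _ hv
      simp only [wprod, List.map_cons, List.prod_cons] at this ⊢
      rw [this]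

theorem moves_sound : ∀ (ms w w' : List ℕ), moves lab ms w = some w' → wprod s w = wprod s w' := by
  intro ms
  induction ms with
  | nil => intro w w' h; simp only [moves, Option.some.injEq] at h; rw [h]
  | cons m ms ih =>
    intro w w' h
    simp only [moves, Option.bind_eq_some_iff] at h
    obtain ⟨v, hv, hv'⟩ := h
    exact (move_sound hs h2 h3 _ _ _ _ hv).trans (ih _ _ hv')

end CfsgLib.Trans3.Spider
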