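import Cfsg.Agent.Lib.InvChar.CosetPerm

/-!
# Fixed cosets in a certified coset table, with collapse certificates

If an element `k` commutes with the letters `xs` lying in `H`, the coset `k H` is fixed by them.  The
table then shows that this coset is one of a few listed points, or that two different points have the
same coset; a collapse certificate shows that in the second case all cosets are equal.
-/

set_option autoImplicit false

namespace CfsgLib.Trans3.Spider

open CfsgLib.InvChar.Coset

/-- Test `f` on `cnt` numbers from `j`. -/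
noncomputable def allFrom (f : ℕ → Bool) (cnt : ℕ) : ℕ → Bool :=
  Nat.rec (fun _ => true) (fun _ ih j => f j && force (j + 1) ih) cnt

theorem allFrom_get (f : ℕ → Bool) : ∀ (cnt j : ℕ), allFrom f cnt j = true →
    ∀ i, j ≤ i → i < j + cnt → f i = true := by
  intro cnt
  induction cnt with
  | zero => intro j _ i h1 h2; omega
  | succ cnt ih =>
    intro j h i h1 h2
    have h' : (f j && force (j + 1) (fun j' => allFrom f cnt j')) = true := h
    rw [Bool.and_eq_true, force_eq] at h'
    rcases eq_or_lt_of_le h1 with rfl | h3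
    · exact h'.1
    · exact ih _ h'.2 i h3 (by omega)

/-- A certificate that the equality of the cosets of `r` and of its image under `x` makes all cosets
equal: the pairs `(pa m, pb m)` come from the first one by letters, and a tree of pairs joins every
point to `0`. -/
structure Collapse where
  /-- the point -/
  r : ℕ
  /-- the letter -/
  x : ℕ
  /-- number of pairs -/
  np : ℕ
  /-- first points -/
  pa : Tr
  /-- second points -/
  pb : Tr
  /-- origin of a pair -/
  pq : Tr
  /-- pair joining a point to its parent -/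
  tm : Tr
  /-- rank of a point in the tree -/
  rk : Tr

namespace Collapse

variable (C : Collapse) (T : Table)

/-- Check pair `m`. -/
noncomputable def pairOK (m : ℕ) : Bool :=
  bif Nat.beq m 0 then Nat.beq (field C.pa 128 20 0) C.r && Nat.beq (field C.pb 128 20 0) (T.app C.r C.x)
  else force (field C.pq 128 30 m) fun v => Nat.blt (v >>> 4) m && Nat.blt (v % 16) T.g &&
    Nat.beq (field C.pa 128 20 m) (T.app (field C.pa 128 20 (v >>> 4)) (v % 16)) &&
    Nat.beq (field C.pb 128 20 m) (T.app (field C.pb 128 20 (v >>> 4)) (v % 16))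

/-- Check the tree at point `p`. -/
noncomputable def treeOK (p : ℕ) : Bool :=
  Nat.beq p 0 || force (field C.tm 128 20 p) fun m => force (field C.rk 128 20 p) fun R =>
    force (field C.pa 128 20 m) fun a => force (field C.pb 128 20 m) fun b => Nat.blt m C.np &&
      ((Nat.beq a p && Nat.blt (field C.rk 128 20 b) R && Nat.blt b T.n) ||
        (Nat.beq b p && Nat.blt (field C.rk 128 20 a) R && Nat.blt a T.n))

/-- The whole check. -/
noncomputable def check : Bool :=
  Nat.blt C.r T.n && Nat.blt C.x T.g && allFrom (C.pairOK T) C.np 0 && allFrom (C.treeOK T) T.n 0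

end Collapse

/-- The classification of the points: listed, a root of a collapse, or pointing to a lower point
under one of the letters. -/
structure Fixed where
  /-- the allowed points -/
  A : List ℕ
  /-- the letters -/
  xs : List ℕ
  /-- rank and letter of a point -/
  forest : Tr
  /-- the collapses -/
  roots : List Collapse

namespace Fixed

variable (F : Fixed) (T : Table)

/-- Check point `i`. -/
noncomputable def pointOK (i : ℕ) : Bool :=
  F.A.any (Nat.beq i) || force (field F.forest 128 24 i) fun v =>
    F.xs.any (Nat.beq (v % 16)) &&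
      (bif Nat.beq (v >>> 4) 0 then F.roots.any (fun C => Nat.beq C.r i && Nat.beq C.x (v % 16))
       else Nat.blt (field F.forest 128 24 (T.app i (v % 16)) >>> 4) (v >>> 4))

/-- The whole check. -/
noncomputable def check : Bool :=
  allFrom (F.pointOK T) T.n 0 && F.roots.all (fun C => C.check T) && F.xs.all (fun x => Nat.blt x T.g)

end Fixed

section

variable {D : Cert} {T : Table} {live fin : Tr} (hC : Covered D T live fin) {G : Type*} [Group G]
  (s : ℕ → G) (H : Subgroup G) (hs : ∀ x, s x * s x = 1) (hR : ∀ r ∈ D.rels, wprod s r = 1)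
  (hS : ∀ r ∈ D.subs, wprod s r ∈ H)

include hC hs hR hS

theorem all_eq_of_collapse (C : Collapse) (hc : C.check T = true)
    (h0 : coset s H D live C.r = coset s H D live (T.app C.r C.x)) :
    ∀ p < T.n, coset s H D live p = coset s H D live 0 := by
  simp only [Collapse.check, Bool.and_eq_true] at hc
  obtain ⟨⟨⟨hr, hx⟩, hp⟩, ht⟩ := hc
  have hr : C.r < T.n := by simpa [Nat.blt] using hr
  have hx : C.x < T.g := by simpa [Nat.blt] using hx
  have pairs : ∀ m < C.np, field C.pa 128 20 m < T.n ∧ field C.pb 128 20 m < T.n ∧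
      coset s H D live (field C.pa 128 20 m) = coset s H D live (field C.pb 128 20 m) := by
    intro m
    induction m using Nat.strong_induction_on with
    | _ m ih =>
      intro hm
      have h := allFrom_get _ _ _ hp m (Nat.zero_le _) (by omega)
      rcases Nat.eq_zero_or_pos m with rfl | hpos
      · have h' : (Nat.beq (field C.pa 128 20 0) C.r &&
            Nat.beq (field C.pb 128 20 0) (T.app C.r C.x)) = true := h
        rw [Bool.and_eq_true] at h'
        rw [Nat.eq_of_beq_eq_true h'.1, Nat.eq_of_beq_eq_true h'.2]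
        exact ⟨hr, (hC.rows _ hr _ hx).1, h0⟩
      · have hb : Nat.beq m 0 = false := by
          cases hz : Nat.beq m 0
          · rfl
          · exact absurd (Nat.eq_of_beq_eq_true hz) (by omega)
        rw [Collapse.pairOK, hb, cond_false, force_eq] at h
        simp only [Bool.and_eq_true] at h
        obtain ⟨⟨⟨hq, hy⟩, ha⟩, hb⟩ := h
        have hq : field C.pq 128 30 m >>> 4 < m := by simpa [Nat.blt] using hq
        have hy : field C.pq 128 30 m % 16 < T.g := by simpa [Nat.blt] using hy
        obtain ⟨a1, b1, e1⟩ := ih _ hq (by omega)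
        rw [Nat.eq_of_beq_eq_true ha, Nat.eq_of_beq_eq_true hb]
        refine ⟨(hC.rows _ a1 _ hy).1, (hC.rows _ b1 _ hy).1, ?_⟩
        rw [← hC.smul_coset s H hs hR hS hy a1, ← hC.smul_coset s H hs hR hS hy b1, e1]
  intro p
  induction hk : field C.rk 128 20 p using Nat.strong_induction_on generalizing p with
  | _ R ih =>
    intro hpn
    rcases Nat.eq_zero_or_pos p with rfl | hpos
    · rfl
    have h := allFrom_get _ _ _ ht p (Nat.zero_le _) (by omega)
    have hb : Nat.beq p 0 = false := by
      cases hz : Nat.beq p 0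
      · rfl
      · exact absurd (Nat.eq_of_beq_eq_true hz) (by omega)
    rw [Collapse.treeOK, hb, Bool.false_or] at h
    simp only [force_eq, Bool.and_eq_true, Bool.or_eq_true] at h
    obtain ⟨hm, h⟩ := h
    obtain ⟨-, -, e⟩ := pairs _ (by simpa [Nat.blt] using hm)
    rcases h with ⟨⟨ha, hlt⟩, hbn⟩ | ⟨⟨hb', hlt⟩, han⟩
    · rw [Nat.eq_of_beq_eq_true ha] at e
      rw [e]
      exact ih _ (by rw [← hk]; simpa [Nat.blt] using hlt) _ rfl (by simpa [Nat.blt] using hbn)
    · rw [Nat.eq_of_beq_eq_true hb'] at e
      rw [← e]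
      exact ih _ (by rw [← hk]; simpa [Nat.blt] using hlt) _ rfl (by simpa [Nat.blt] using han)

theorem fixed_point (F : Fixed) (hF : F.check T = true)
    (hgen : Subgroup.closure (s '' Set.Iio T.g) = ⊤) (k : G) (hk : ∀ x ∈ F.xs, Commute (s x) k)
    (hxs : ∀ x ∈ F.xs, [x] ∈ D.subs) :
    k ∈ H ∨ ∃ a ∈ F.A, (k : G ⧸ H) = coset s H D live a := by
  simp only [Fixed.check, Bool.and_eq_true, List.all_eq_true] at hF
  obtain ⟨⟨hpt, hroots⟩, hlt⟩ := hF
  obtain ⟨i, hi, hie⟩ := hC.exists_coset s H hs hR hS hgen (k : G ⧸ H)
  have hfix : ∀ x ∈ F.xs, s x • (k : G ⧸ H) = (k : G ⧸ H) := by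
    intro x hx
    have hmem := hS _ (hxs x hx)
    simp only [wprod, List.map_cons, List.map_nil, List.prod_cons, List.prod_nil, mul_one] at hmem
    show ((s x * k : G) : G ⧸ H) = k
    rw [(hk x hx).eq, QuotientGroup.eq]
    simpa using inv_mem hmem
  suffices key : ∀ R i, field F.forest 128 24 i >>> 4 = R → i < T.n →
      coset s H D live i = (k : G ⧸ H) → k ∈ H ∨ ∃ a ∈ F.A, (k : G ⧸ H) = coset s H D live a from
    key _ i rfl hi hie
  intro R
  induction R using Nat.strong_induction_on with
  | _ R ih =>
    intro i hR' hi hie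
    have h := allFrom_get _ _ _ hpt i (Nat.zero_le _) (by omega)
    simp only [Fixed.pointOK, force_eq, Bool.or_eq_true, Bool.and_eq_true, List.any_eq_true] at h
    rcases h with ⟨a, ha, hia⟩ | ⟨⟨x, hx, hxe⟩, h⟩
    · exact Or.inr ⟨a, ha, by rw [← Nat.eq_of_beq_eq_true hia]; exact hie.symm⟩
    have hxe := Nat.eq_of_beq_eq_true hxe
    rw [hxe] at h
    have hxg : x < T.g := by simpa [Nat.blt] using hlt x hx
    have himg : coset s H D live (T.app i x) = (k : G ⧸ H) := by
      rw [← hC.smul_coset s H hs hR hS hxg hi, hie]; exact hfix x hx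
    cases hb : Nat.beq (field F.forest 128 24 i >>> 4) 0 with
    | true =>
      rw [hb, cond_true, List.any_eq_true] at h
      obtain ⟨C, hCm, hCe⟩ := h
      rw [Bool.and_eq_true] at hCe
      obtain ⟨e1, e2⟩ := And.intro (Nat.eq_of_beq_eq_true hCe.1) (Nat.eq_of_beq_eq_true hCe.2)
      left
      have hall := all_eq_of_collapse hC s H hs hR hS C (hroots C hCm)
        (by rw [e1, e2, hie, himg]) i hi
      rw [hie, hC.coset_zero s H, QuotientGroup.eq] at hall
      simpa using hall
    | false =>
      rw [hb, cond_false] at h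
      refine ih _ ?_ _ rfl (hC.rows _ hi _ hxg).1 himg
      rw [← hR']; simpa [Nat.blt] using h

end

section Subgroup

variable {G : Type*} [Group G] (s : ℕ → G)

/-- A word in the letters `< g` has its value in the subgroup they generate. -/
theorem wprod_mem_closure {g : ℕ} : ∀ w : List ℕ, (∀ x ∈ w, x < g) →
    wprod s w ∈ Subgroup.closure (s '' Set.Iio g)
  | [], _ => by simp [wprod]
  | x :: w, h => by
    rw [show wprod s (x :: w) = s x * wprod s w by simp [wprod]]
    exact mul_mem (Subgroup.subset_closure ⟨x, h x (by simp), rfl⟩)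
      (wprod_mem_closure w fun y hy => h y (List.mem_cons_of_mem _ hy))

theorem wprod_smul_coset {D : Cert} {T : Table} {live fin : Tr} (hC : Covered D T live fin)
    (H : Subgroup G) (hs : ∀ x, s x * s x = 1) (hR : ∀ r ∈ D.rels, wprod s r = 1)
    (hS : ∀ r ∈ D.subs, wprod s r ∈ H) : ∀ w : List ℕ, (∀ x ∈ w, x < T.g) → ∀ i < T.n,
      T.follow w.reverse i < T.n ∧
        wprod s w • coset s H D live i = coset s H D live (T.follow w.reverse i)
  | [], _, i, hi => ⟨hi, by rw [show wprod s ([] : List ℕ) = 1 by simp [wprod], one_smul]; rfl⟩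
  | x :: w, h, i, hi => by
    obtain ⟨h1, h2⟩ := wprod_smul_coset hC H hs hR hS w (fun y hy => h y (List.mem_cons_of_mem _ hy)) i hi
    rw [List.reverse_cons, Table.follow_append,
      show T.follow [x] (T.follow w.reverse i) = T.app (T.follow w.reverse i) x by
        show force _ _ = _; rw [force_eq]]
    refine ⟨(hC.rows _ h1 _ (h x (by simp))).1, ?_⟩
    rw [show wprod s (x :: w) = s x * wprod s w by simp [wprod], mul_smul, h2,
      hC.smul_coset s H hs hR hS (h x (by simp)) h1]

end Subgroup

end CfsgLib.Trans3.Spider
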