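import Cfsg.Agent.Lib.Trans3.Spider.Collapse
import Cfsg.Agent.Lib.Trans3.Spider.Braid

/-!
# Words and tools for the Y-diagram argument

Local letters for the arms `i, j, k`: `0` the centre; `1 2 3 4 10` the nodes `b c d e f` of arm `i`;
`5 6 9` the nodes `b c d` of arm `j`; `7 8` the nodes `b c` of arm `k`; `11` an extra reflection.
-/

set_option autoImplicit false
set_option maxRecDepth 100000

namespace CfsgLib.Trans3.Spider

open CfsgLib.InvChar.Coset


/-- The edges between local letters. -/
def edges11 : List (ℕ × ℕ) :=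
  [(0, 1), (1, 2), (2, 3), (3, 4), (4, 10), (0, 5), (5, 6), (6, 9), (0, 7), (7, 8), (6, 11)]

/-- The label of two local letters. -/
def lab11 (x y : ℕ) : ℕ :=
  if x = y then 1 else if (x, y) ∈ edges11 ∨ (y, x) ∈ edges11 then 3 else 2

/-- `n` copies of a word. -/
def rpt (n : ℕ) (w : List ℕ) : List ℕ := (List.replicate n w).flatten

/-- The ninth power of a Coxeter element of the diagram on `a, i:3, j:2, k:1`. -/
def zW : List ℕ := rpt 9 [0, 1, 5, 7, 2, 6, 3]
/-- The same with `j` and `k` exchanged. -/
def zpW : List ℕ := rpt 9 [0, 1, 7, 5, 2, 8, 3]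
/-- The same for the arms `j, k, i`. -/
def zjW : List ℕ := rpt 9 [0, 5, 7, 1, 6, 8, 9]
/-- The spider word. -/
def spW : List ℕ := rpt 10 [0, 1, 2, 0, 5, 6, 0, 7, 8]
/-- The cube of `e z`. -/
def omW : List ℕ := rpt 3 (4 :: zW)
/-- The cube of `z e`. -/
def tW : List ℕ := rpt 3 (zW ++ [4])
/-- `z z'⁻¹`. -/
def qW : List ℕ := zW ++ zpW.reverse
/-- The reflection extending the chain at `c_j`. -/
def dW : List ℕ :=
  [6, 5, 0, 1, 2, 3, 7, 0, 1, 2, 5, 0, 1, 6, 5, 0, 7, 0, 5, 6, 1, 0, 5, 2, 1, 0, 7, 3, 2, 1, 0, 5, 6]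

section

variable {G : Type*} [Group G] (s : ℕ → G)

/-- The subgroup generated by the letters in a list. -/
def gens (l : List ℕ) : Subgroup G := Subgroup.closure {g | ∃ x ∈ l, s x = g}

theorem mem_gens {l : List ℕ} {x : ℕ} (h : x ∈ l) : s x ∈ gens s l :=
  Subgroup.subset_closure ⟨x, h, rfl⟩

theorem gens_mono {l m : List ℕ} (h : ∀ x ∈ l, x ∈ m) : gens s l ≤ gens s m :=
  Subgroup.closure_mono fun _ ⟨x, hx, e⟩ => ⟨x, h x hx, e⟩

theorem wprod_mem_gens {l : List ℕ} : ∀ w : List ℕ, (∀ x ∈ w, x ∈ l) → wprod s w ∈ gens s l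
  | [], _ => by simp [wprod]
  | x :: w, h => by
    rw [show wprod s (x :: w) = s x * wprod s w by simp [wprod]]
    exact mul_mem (mem_gens s (h x (by simp))) (wprod_mem_gens w fun y hy => h y (List.mem_cons_of_mem _ hy))

theorem commute_wprod {g : G} : ∀ w : List ℕ, (∀ x ∈ w, Commute g (s x)) → Commute g (wprod s w)
  | [], _ => by simp [wprod]
  | x :: w, h => by
    rw [show wprod s (x :: w) = s x * wprod s w by simp [wprod]]
    exact (h x (by simp)).mul_right (commute_wprod w fun y hy => h y (List.mem_cons_of_mem _ hy))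

theorem commute_of_mem_gens {g k : G} {l : List ℕ} (hg : ∀ x ∈ l, Commute g (s x))
    (hk : k ∈ gens s l) : Commute g k := by
  induction hk using Subgroup.closure_induction with
  | mem y hy => obtain ⟨x, hx, rfl⟩ := hy; exact hg x hx
  | one => exact Commute.one_right g
  | mul a b _ _ ha hb => exact ha.mul_right hb
  | inv a _ ha => exact ha.inv_right

/-- A subgroup enlarged by a central involution. -/
theorem mem_or_mul_mem {H : Subgroup G} {z k : G} (hz : ∀ h ∈ H, Commute z h) (hz2 : z * z = 1)
    (hk : k ∈ H ⊔ Subgroup.zpowers z) : k ∈ H ∨ z * k ∈ H := by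
  let M : Subgroup G :=
    { carrier := {g | g ∈ H ∨ z * g ∈ H}
      one_mem' := Or.inl H.one_mem
      mul_mem' := by
        rintro a b (ha | ha) (hb | hb)
        · exact Or.inl (mul_mem ha hb)
        · refine Or.inr ?_
          rw [show z * (a * b) = a * (z * b) by rw [← mul_assoc, (hz a ha).eq, mul_assoc]]
          exact mul_mem ha hb
        · exact Or.inr (by rw [← mul_assoc]; exact mul_mem ha hb)
        · refine Or.inl ?_
          rw [show a * b = z * a * (z * b) by
            rw [← mul_assoc, show z * a * z = a by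
              have h := (hz _ ha).eq
              rw [← mul_assoc, hz2, one_mul] at h
              exact h.symm]]
          exact mul_mem ha hb
      inv_mem' := by
        rintro a (ha | ha)
        · exact Or.inl (inv_mem ha)
        · refine Or.inr ?_
          have h := (hz _ (inv_mem ha)).eq
          rw [mul_inv_rev] at h
          have hzi : z⁻¹ = z := inv_eq_of_mul_eq_one_right hz2
          rw [hzi] at h
          have h' : z * a⁻¹ = a⁻¹ * z := by
            calc z * a⁻¹ = z * (a⁻¹ * z) * z := by rw [mul_assoc, mul_assoc, hz2, mul_one]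
              _ = a⁻¹ * z * z * z := by rw [h]
              _ = a⁻¹ * z := by rw [mul_assoc (a⁻¹ * z), hz2, mul_one]
          rw [h', ← hzi, ← mul_inv_rev]
          exact inv_mem ha }
  exact (show H ⊔ Subgroup.zpowers z ≤ M from sup_le (fun h hh => Or.inl hh)
    (Subgroup.zpowers_le.2 (Or.inr (by rw [hz2]; exact one_mem H)))) hk

/-- The letters of a certificate inside the group. -/
noncomputable def loc (emb : List ℕ) (x : ℕ) : G := if x < emb.length then s (emb.getD x 0) else 1

theorem loc_mem {emb : List ℕ} (x : ℕ) : loc s emb x ∈ gens s emb := by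
  unfold loc
  split
  · rename_i h
    rw [List.getD_eq_getElem _ _ h]
    exact mem_gens s (List.getElem_mem h)
  · exact one_mem _

theorem wprod_loc {emb : List ℕ} : ∀ w : List ℕ, (∀ x ∈ w, x < emb.length) →
    wprod (loc s emb) w = wprod s (w.map (emb.getD · 0))
  | [], _ => by simp [wprod]
  | x :: w, h => by
    have ih := wprod_loc w fun y hy => h y (List.mem_cons_of_mem _ hy)
    simp only [wprod, List.map_cons, List.prod_cons] at ih ⊢
    rw [ih, loc, if_pos (h x (by simp))]

end

/-- The relators a certificate may use. -/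
def allowed (extra : List (List ℕ)) : List (List ℕ) :=
  extra ++ (List.range 12).map (fun x => [x, x]) ++
    (List.range 12).flatMap fun x => (List.range 12).map fun y => rpt (lab11 x y) [x, y]

/-- Check the relators and subgroup words of a certificate. -/
def relsOK (extra : List (List ℕ)) (emb : List ℕ) (rels : List (List ℕ)) : Bool :=
  rels.all fun r => r.all (fun x => decide (x < emb.length)) &&
    decide (r.map (emb.getD · 0) ∈ allowed extra)

theorem wprod_rpt {G : Type*} [Group G] (s : ℕ → G) (n : ℕ) (w : List ℕ) :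
    wprod s (rpt n w) = wprod s w ^ n := by
  induction n with
  | zero => simp [rpt, wprod]
  | succ n ih =>
    rw [rpt, List.replicate_succ, List.flatten_cons, wprod_append, pow_succ']
    exact congrArg _ ih

/-- The Coxeter relations among the local letters used by a certificate. -/
def CoxRel {G : Type*} [Group G] (s : ℕ → G) (extra : List (List ℕ)) (emb : List ℕ) : Prop :=
  (∀ x, s x * s x = 1) ∧ (∀ x ∈ emb, ∀ y ∈ emb, (s x * s y) ^ lab11 x y = 1) ∧
    ∀ w ∈ extra, wprod s w = 1

theorem rels_ok {G : Type*} [Group G] {s : ℕ → G} {extra : List (List ℕ)} {emb : List ℕ}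
    {rels : List (List ℕ)} (h : CoxRel s extra emb) (hok : relsOK extra emb rels = true) :
    ∀ r ∈ rels, wprod (loc s emb) r = 1 := by
  intro r hr
  simp only [relsOK, List.all_eq_true, Bool.and_eq_true, decide_eq_true_eq] at hok
  obtain ⟨hlt, hm⟩ := hok r hr
  rw [wprod_loc s r hlt]
  have hmem : ∀ z ∈ r.map (emb.getD · 0), z ∈ emb := by
    intro z hz
    obtain ⟨x, hx, rfl⟩ := List.mem_map.1 hz
    rw [List.getD_eq_getElem _ _ (hlt x hx)]; exact List.getElem_mem _
  simp only [allowed, List.mem_append, List.mem_map, List.mem_flatMap, List.mem_range] at hm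
  rcases hm with (hm | ⟨x, -, e⟩) | ⟨x, -, y, -, e⟩
  · exact h.2.2 _ hm
  · rw [← e]; simp [wprod, h.1]
  · rw [← e] at hmem ⊢
    rw [wprod_rpt]
    rcases Nat.eq_zero_or_pos (lab11 x y) with h0 | h0
    · rw [h0, pow_zero]
    · have hsub : ∀ z ∈ [x, y], z ∈ emb := fun z hz => hmem z (by
        rw [rpt, List.mem_flatten]
        exact ⟨[x, y], List.mem_replicate.2 ⟨by omega, rfl⟩, hz⟩)
      simpa [wprod] using h.2.1 x (hsub x (by simp)) y (hsub y (by simp))

section

variable {G : Type*} [Group G] {s : ℕ → G} {extra : List (List ℕ)} {emb : List ℕ}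
  (hR : CoxRel s extra emb)
include hR

theorem loc_sq (x : ℕ) : loc s emb x * loc s emb x = 1 := by
  unfold loc; split <;> simp [hR.1]

/-- A goal certificate gives membership. -/
theorem goal_mem {D : Cert} {nb t n st : ℕ} {w W : List ℕ} (hok : relsOK extra emb D.rels = true)
    {H : Subgroup G} (hsubs : ∀ r ∈ D.subs, wprod (loc s emb) r ∈ H) (hnb : D.nf ≤ nb * 128)
    (hblk : ∀ j < nb, D.chkRun 128 (j * 128) (D.just.get j) = true)
    (hg : D.chkGoal t n st w = true) (ht : t ≤ D.nf) (hw : ∀ x ∈ w, x < emb.length)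
    (hW : w.map (emb.getD · 0) = W) : wprod s W ∈ H := by
  rw [← hW, ← wprod_loc s w hw]
  exact mem_of_goal (loc_sq hR) (fun r hr => holds_of_blocks (loc_sq hR) (rels_ok hR hok) hsubs nb hnb hblk r
    (lt_of_lt_of_le hr ht)) hg

/-- The fixed point criterion inside the subgroup generated by the letters of a table. -/
theorem fixed_mem {D : Cert} {T : Table} {live fin : Tr} (hC : Covered D T live fin)
    (hg : T.g = emb.length) (hok : relsOK extra emb D.rels = true) {H : Subgroup G}
    (hsubs : ∀ r ∈ D.subs, wprod (loc s emb) r ∈ H) (F : Fixed) (hF : F.check T = true)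
    (hA : F.A = [0]) (hxs : ∀ x ∈ F.xs, [x] ∈ D.subs) {k : G} (hkK : k ∈ gens s emb)
    (hk : ∀ x ∈ F.xs, Commute (loc s emb x) k) : k ∈ H := by
  let K := gens s emb
  let s' : ℕ → K := fun x => ⟨loc s emb x, loc_mem s x⟩
  have hval : ∀ w, ((wprod s' w : K) : G) = wprod (loc s emb) w := by
    intro w
    simp only [wprod, SubmonoidClass.coe_list_prod, List.map_map]
    rfl
  have hgen : Subgroup.closure (s' '' Set.Iio T.g) = ⊤ := by
    rw [eq_top_iff]
    rintro ⟨y, hy⟩ -
    induction hy using Subgroup.closure_induction with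
    | mem y hy =>
      obtain ⟨x, hx, rfl⟩ := hy
      obtain ⟨i, hi, rfl⟩ := List.getElem_of_mem hx
      refine Subgroup.subset_closure ⟨i, by rw [hg]; exact hi, Subtype.ext ?_⟩
      show loc s emb i = s emb[i]
      rw [loc, if_pos hi, List.getD_eq_getElem _ _ hi]
    | one => exact one_mem _
    | mul a b _ _ ha hb => exact mul_mem ha hb
    | inv a _ ha => exact inv_mem ha
  have hR' : ∀ r ∈ D.rels, wprod s' r = 1 := fun r hr => Subtype.ext (by
    rw [hval, rels_ok hR hok r hr]; rfl)
  have hS' : ∀ r ∈ D.subs, wprod s' r ∈ H.subgroupOf K := fun r hr => by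
    rw [Subgroup.mem_subgroupOf, hval]; exact hsubs r hr
  rcases fixed_point hC s' (H.subgroupOf K) (fun x => Subtype.ext (loc_sq hR x)) hR' hS' F hF hgen
      ⟨k, hkK⟩ (fun x hx => Subtype.ext (hk x hx).eq) hxs with h | ⟨a, ha, he⟩
  · exact Subgroup.mem_subgroupOf.1 h
  · rw [hA, List.mem_singleton] at ha
    subst ha
    rw [hC.coset_zero, QuotientGroup.eq] at he
    simpa using Subgroup.mem_subgroupOf.1 he

end

end CfsgLib.Trans3.Spider
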