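import Cfsg.Agent.Lib.Trans3.Spider.Stage
import Cfsg.Agent.Lib.InvChar.CosetPres
import Cfsg.Prelude.Def_Spor_M

/-!
# The spider relation implies the six relations at the end nodes
-/

set_option autoImplicit false
set_option maxRecDepth 100000

namespace CfsgLib.Trans3.Spider

open CfsgLib.InvChar.Coset Cfsg.Spor Cfsg.Spor.Bimonster

/-- The numbering of the sixteen nodes. -/
def nIdx : Gen → ℕ
  | .a => 0
  | .b1 => 1
  | .c1 => 2
  | .d1 => 3
  | .e1 => 4
  | .f1 => 5
  | .b2 => 6
  | .c2 => 7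
  | .d2 => 8
  | .e2 => 9
  | .f2 => 10
  | .b3 => 11
  | .c3 => 12
  | .d3 => 13
  | .e3 => 14
  | .f3 => 15

/-- The node with a given number. -/
def nOf (x : ℕ) : Gen :=
  [Gen.a, .b1, .c1, .d1, .e1, .f1, .b2, .c2, .d2, .e2, .f2, .b3, .c3, .d3, .e3, .f3].getD x .a

/-- The only further relator. -/
def spRelator : List (FreeGroup Gen) := [(a * b1 * c1 * a * b2 * c2 * a * b3 * c3) ^ 10]

/-- The spider word on numbers. -/
def spNum : List ℕ := rpt 10 [0, 1, 2, 0, 6, 7, 0, 11, 12]

/-- All relator words. -/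
def relWords : List (List ℕ) :=
  ((List.range 16).flatMap fun x => ((List.range 16).filter (x ≤ ·)).map fun y =>
    coxWord edges nOf x y) ++ [[0, 0], spNum] ++ (List.range 16).map fun x => [x, x]

theorem isPres : IsPres edges spRelator 16 nIdx nOf relWords :=
  ⟨fun a => by cases a <;> decide, by decide +kernel⟩

/-- The generators. -/
noncomputable abbrev node : ℕ → CoxPresented Gen edges spRelator := isPres.gen

/-- The local letters for arms starting at `o, p, q`. -/
def armMap (o p q x : ℕ) : ℕ :=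
  [0, o, o + 1, o + 2, o + 3, p, p + 1, q, q + 1, p + 2, o + 4].getD x 16

theorem node_cox {x y : ℕ} (hx : x < 16) (hy : y < 16) :
    (node x * node y) ^ coxLabel edges (nOf x) (nOf y) = 1 := by
  rcases (isPres.forall_letter x hx).2.2.2 y hy with h | h
  · have := isPres.gen_rel _ h
    rwa [coxWord, wprod_replicate] at this
  · have := isPres.gen_rel _ h
    rw [coxWord, wprod_replicate] at this
    have hsymm : coxLabel edges (nOf y) (nOf x) = coxLabel edges (nOf x) (nOf y) := by
      rcases eq_or_ne (nOf x) (nOf y) with e | hne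
      · rw [e]
      · simp only [coxLabel, if_neg hne, if_neg hne.symm, or_comm]
    rw [hsymm] at this
    rw [← inv_eq_one, ← inv_pow, mul_inv_rev, inv_eq_of_mul_eq_one_right (isPres.gen_mul_self _),
      inv_eq_of_mul_eq_one_right (isPres.gen_mul_self _)]
    exact this

theorem node_spider : wprod node spNum = 1 := isPres.gen_rel _ (by decide +kernel)

theorem exists_sign : ∃ χ : CoxPresented Gen edges spRelator →* Multiplicative (ZMod 2),
    ∀ x < 16, χ (node x) = odd1 := by
  refine isPres.exists_hom (fun _ => odd1) (fun _ => by decide) fun r hr => ?_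
  have hev : r.length % 2 = 0 := (by decide +kernel : ∀ r ∈ relWords, r.length % 2 = 0) r hr
  obtain ⟨m, hm⟩ : ∃ m, r.length = 2 * m := ⟨r.length / 2, by omega⟩
  rw [wprod, List.map_const', List.prod_replicate, hm, pow_mul, show odd1 ^ 2 = 1 by decide, one_pow]

/-- The arms of a triple satisfy the local relations unless the group is degenerate. -/
theorem arms {o p q : ℕ} (h : (o, p, q) ∈ [(1, 6, 11), (6, 11, 1), (11, 1, 6)])
    (hnd : node (o + 2) ≠ node (o + 1)) (hnd' : node (o + 3) ≠ node (o + 2)) :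
    Arms (fun x => node (armMap o p q x)) := by
  obtain ⟨χ, hχ⟩ := exists_sign
  have hd : ∀ o p q, (o, p, q) ∈ [(1, 6, 11), (6, 11, 1), (11, 1, 6)] →
      (∀ x < 11, armMap o p q x < 16) ∧
      (∀ x < 11, ∀ y < 11, coxLabel edges (nOf (armMap o p q x)) (nOf (armMap o p q y)) = lab11 x y) ∧
      (armMap o p q 3 = o + 2 ∧ armMap o p q 2 = o + 1 ∧ armMap o p q 4 = o + 3) := by
    intro o p q h
    simp only [List.mem_cons, Prod.mk.injEq, List.not_mem_nil, or_false] at h
    rcases h with ⟨rfl, rfl, rfl⟩ | ⟨rfl, rfl, rfl⟩ | ⟨rfl, rfl, rfl⟩ <;>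
      exact ⟨by decide, by decide +kernel, rfl, rfl, rfl⟩
  obtain ⟨hlt, hlab, e3, e2, e4⟩ := hd o p q h
  refine ⟨fun x => isPres.gen_mul_self _, fun x hx y hy => ?_, ?_, ⟨χ, fun x hx => hχ _ (hlt x hx)⟩,
    by show node _ ≠ node _; rw [e3, e2]; exact hnd, by show node _ ≠ node _; rw [e4, e3]; exact hnd'⟩
  · rw [← hlab x hx y hy]; exact node_cox (hlt x hx) (hlt y hy)
  · rw [show wprod (fun x => node (armMap o p q x)) spW = wprod node (spW.map (armMap o p q)) by
      simp [wprod, List.map_map, Function.comp_def]]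
    have hrot : ∃ k < 7, spW.map (armMap o p q) = spNum.drop k ++ spNum.take k := by
      simp only [List.mem_cons, Prod.mk.injEq, List.not_mem_nil, or_false] at h
      rcases h with ⟨rfl, rfl, rfl⟩ | ⟨rfl, rfl, rfl⟩ | ⟨rfl, rfl, rfl⟩
      · exact ⟨0, by decide, by decide +kernel⟩
      · exact ⟨3, by decide, by decide +kernel⟩
      · exact ⟨6, by decide, by decide +kernel⟩
    obtain ⟨k, -, e⟩ := hrot
    rw [e]
    exact wprod_rotate node _ _ node_spider

/-- Spreading of an equality of adjacent nodes along the tree. -/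
def spread : List (ℕ × ℕ) → List (ℕ × ℕ × ℕ) → Option (List (ℕ × ℕ))
  | K, [] => some K
  | K, (p, q, r) :: rest =>
    if ((p, q) ∈ K ∨ (q, p) ∈ K) ∧ p < 16 ∧ q < 16 ∧ r < 16 ∧ coxLabel edges (nOf q) (nOf r) = 3 ∧
        coxLabel edges (nOf p) (nOf r) = 2 then spread ((q, r) :: K) rest else none

theorem spread_sound : ∀ (steps : List (ℕ × ℕ × ℕ)) (K K' : List (ℕ × ℕ)),
    spread K steps = some K' → (∀ e ∈ K, node e.1 = node e.2) → ∀ e ∈ K', node e.1 = node e.2
  | [], K, K', h, hK => by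
    simp only [spread, Option.some.injEq] at h; subst h; exact hK
  | (p, q, r) :: rest, K, K', h, hK => by
    simp only [spread] at h
    split at h
    · rename_i hc
      obtain ⟨hpq, hp, hq, hr, l3, l2⟩ := hc
      refine spread_sound rest _ K' h ?_
      intro e he
      rcases List.mem_cons.1 he with rfl | he
      · have epq : node p = node q := by
          rcases hpq with h' | h'
          · exact hK _ h'
          · exact (hK _ h').symm
        have h3 := node_cox hq hr
        have h2 := node_cox hp hr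
        rw [l3] at h3
        rw [l2, epq] at h2
        rw [pow_succ, h2, one_mul] at h3
        show node q = node r
        rw [eq_inv_of_mul_eq_one_left h3, inv_eq_of_mul_eq_one_right (isPres.gen_mul_self r)]
      · exact hK e he
    · simp at h

theorem all_equal {p q : ℕ}
    (h : (p, q) ∈ [(3, 2), (4, 3), (8, 7), (9, 8), (13, 12), (14, 13)]) (he : node p = node q) :
    ∀ x < 16, node x = node 0 := by
  -- all nodes are joined to the given edge through the tree
  have key : ∀ (S : List (ℕ × ℕ × ℕ)) (K' : List (ℕ × ℕ)), spread [(p, q)] S = some K' →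
      (∀ x ∈ [(0, 1), (1, 2), (2, 3), (3, 4), (4, 5), (0, 6), (6, 7), (7, 8), (8, 9), (9, 10), (0, 11),
        (11, 12), (12, 13), (13, 14), (14, 15)], x ∈ K' ∨ (x.2, x.1) ∈ K') →
      ∀ x < 16, node x = node 0 := by
    intro S K' hS hK'
    have hs := spread_sound S _ K' hS (fun e he' => by
      rw [List.mem_singleton] at he'; subst he'; exact he)
    have he' : ∀ x ∈ [(0, 1), (1, 2), (2, 3), (3, 4), (4, 5), (0, 6), (6, 7), (7, 8), (8, 9), (9, 10),
        (0, 11), (11, 12), (12, 13), (13, 14), (14, 15)], node x.1 = node x.2 := fun x hx => by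
      rcases hK' x hx with h' | h'
      · exact hs _ h'
      · exact (hs _ h').symm
    simp only [List.forall_mem_cons, List.not_mem_nil] at he'
    obtain ⟨a1, a2, a3, a4, a5, b1, b2, b3, b4, b5, c1, c2, c3, c4, c5, -⟩ := he'
    intro x hx
    interval_cases x
    exacts [rfl, a1.symm, (a1.trans a2).symm, ((a1.trans a2).trans a3).symm,
      (((a1.trans a2).trans a3).trans a4).symm, ((((a1.trans a2).trans a3).trans a4).trans a5).symm,
      b1.symm, (b1.trans b2).symm, ((b1.trans b2).trans b3).symm,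
      (((b1.trans b2).trans b3).trans b4).symm, ((((b1.trans b2).trans b3).trans b4).trans b5).symm,
      c1.symm, (c1.trans c2).symm, ((c1.trans c2).trans c3).symm,
      (((c1.trans c2).trans c3).trans c4).symm, ((((c1.trans c2).trans c3).trans c4).trans c5).symm]
  simp only [List.mem_cons, Prod.mk.injEq, List.not_mem_nil, or_false] at h
  rcases h with ⟨rfl, rfl⟩ | ⟨rfl, rfl⟩ | ⟨rfl, rfl⟩ | ⟨rfl, rfl⟩ | ⟨rfl, rfl⟩ | ⟨rfl, rfl⟩
  · exact key [(3, 2, 1), (2, 3, 4), (2, 1, 0), (3, 4, 5), (1, 0, 6), (1, 0, 11), (0, 6, 7), (0, 11, 12), (6, 7, 8), (11, 12, 13), (7, 8, 9), (12, 13, 14), (8, 9, 10), (13, 14, 15)] _ rfl (by decide)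
  · exact key [(4, 3, 2), (3, 4, 5), (3, 2, 1), (2, 1, 0), (1, 0, 6), (1, 0, 11), (0, 6, 7), (0, 11, 12), (6, 7, 8), (11, 12, 13), (7, 8, 9), (12, 13, 14), (8, 9, 10), (13, 14, 15)] _ rfl (by decide)
  · exact key [(8, 7, 6), (7, 8, 9), (7, 6, 0), (8, 9, 10), (6, 0, 1), (6, 0, 11), (0, 1, 2), (0, 11, 12), (1, 2, 3), (11, 12, 13), (2, 3, 4), (12, 13, 14), (3, 4, 5), (13, 14, 15)] _ rfl (by decide)
  · exact key [(9, 8, 7), (8, 9, 10), (8, 7, 6), (7, 6, 0), (6, 0, 1), (6, 0, 11), (0, 1, 2), (0, 11, 12), (1, 2, 3), (11, 12, 13), (2, 3, 4), (12, 13, 14), (3, 4, 5), (13, 14, 15)] _ rfl (by decide)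
  · exact key [(13, 12, 11), (12, 13, 14), (12, 11, 0), (13, 14, 15), (11, 0, 1), (11, 0, 6), (0, 1, 2), (0, 6, 7), (1, 2, 3), (6, 7, 8), (2, 3, 4), (7, 8, 9), (3, 4, 5), (8, 9, 10)] _ rfl (by decide)
  · exact key [(14, 13, 12), (13, 14, 15), (13, 12, 11), (12, 11, 0), (11, 0, 1), (11, 0, 6), (0, 1, 2), (0, 6, 7), (1, 2, 3), (6, 7, 8), (2, 3, 4), (7, 8, 9), (3, 4, 5), (8, 9, 10)] _ rfl (by decide)

theorem degenerate_or : (∀ x < 16, node x = node 0) ∨
    (node 3 ≠ node 2 ∧ node 4 ≠ node 3 ∧ node 8 ≠ node 7 ∧ node 9 ≠ node 8 ∧ node 13 ≠ node 12 ∧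
      node 14 ≠ node 13) := by
  by_contra hcon
  rw [not_or] at hcon
  obtain ⟨h1, h2⟩ := hcon
  refine h2 ⟨?_, ?_, ?_, ?_, ?_, ?_⟩ <;> exact fun he => h1 (all_equal (by decide) he)

theorem wprod_arm (o p q : ℕ) (w : List ℕ) :
    wprod node (w.map (armMap o p q)) = wprod (fun x => node (armMap o p q x)) w := by
  simp [wprod, List.map_map, Function.comp_def]

/-- The end node of each arm is the ninth power of both Coxeter elements. -/
theorem arm_relation {o p q : ℕ} (h : (o, p, q) ∈ [(1, 6, 11), (6, 11, 1), (11, 1, 6)]) :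
    node (o + 4) = wprod node (zW.map (armMap o p q)) ∧
      node (o + 4) = wprod node (zpW.map (armMap o p q)) := by
  have hd : ∀ o p q, (o, p, q) ∈ [(1, 6, 11), (6, 11, 1), (11, 1, 6)] →
      (p, q, o) ∈ [(1, 6, 11), (6, 11, 1), (11, 1, 6)] ∧ o + 4 < 16 ∧
      zjW.map (armMap o p q) = zW.map (armMap p q o) ∧ armMap o p q 10 = o + 4 ∧
      (∀ x ∈ zW.map (armMap o p q), x < 16) ∧ (∀ x ∈ zpW.map (armMap o p q), x < 16) ∧
      (∀ x ∈ [0, 1, 2, 5, 6, 7, 8, 9],
        ∃ y ∈ [0, 1, 2, 3, 5, 6, 7, 8, 9], armMap p q o y = armMap o p q x) := by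
    intro o p q h
    simp only [List.mem_cons, Prod.mk.injEq, List.not_mem_nil, or_false] at h
    rcases h with ⟨rfl, rfl, rfl⟩ | ⟨rfl, rfl, rfl⟩ | ⟨rfl, rfl, rfl⟩ <;> decide +kernel
  obtain ⟨h', hlt, ej, e10, hz, hzp, hy⟩ := hd o p q h
  rcases degenerate_or with hall | hnd
  · have hw : ∀ w : List ℕ, (∀ x ∈ w, x < 16) → w.length % 2 = 1 → wprod node w = node 0 := by
      intro w hw hodd
      rw [wprod, List.map_congr_left (g := fun _ => node 0) fun x hx => hall x (hw x hx),
        List.map_const', List.prod_replicate]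
      obtain ⟨m, hm⟩ : ∃ m, w.length = 2 * m + 1 := ⟨w.length / 2, by omega⟩
      rw [hm, pow_succ, pow_mul, pow_two, isPres.gen_mul_self, one_pow, one_mul]
    exact ⟨by rw [hall _ hlt, hw _ hz (by rw [List.length_map]; decide)],
      by rw [hall _ hlt, hw _ hzp (by rw [List.length_map]; decide)]⟩
  obtain ⟨n1, n2, n3, n4, n5, n6⟩ := hnd
  have hA : ∀ o p q, (o, p, q) ∈ [(1, 6, 11), (6, 11, 1), (11, 1, 6)] →
      Arms (fun x => node (armMap o p q x)) := by
    intro o p q h
    refine arms h ?_ ?_ <;>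
    · simp only [List.mem_cons, Prod.mk.injEq, List.not_mem_nil, or_false] at h
      rcases h with ⟨rfl, rfl, rfl⟩ | ⟨rfl, rfl, rfl⟩ | ⟨rfl, rfl, rfl⟩ <;> assumption
  have A := hA o p q h
  have B := hA p q o h'
  have ezj : wprod (fun x => node (armMap o p q x)) zjW = wprod (fun x => node (armMap p q o x)) zW := by
    rw [← wprod_arm, ← wprod_arm, ej]
  have hf := A.f_eq (fun x hx => by
      obtain ⟨y, hy1, hy2⟩ := hy x hx
      rw [ezj]
      show Commute _ (node (armMap o p q x))
      rw [← hy2]; exact B.z_comm hy1)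
    (by rw [ezj]; exact B.cox8.z_sq)
  rw [wprod_arm, wprod_arm, ← A.z_eq_zp]
  have hf' : node (armMap o p q 10) = _ := hf
  rw [e10] at hf'
  exact ⟨hf', hf'⟩

theorem relators_hold :
    ∀ r ∈ Bimonster.extra, PresentedGroup.mk (coxRelators edges ∪ {r' | r' ∈ spRelator}) r = 1 := by
  intro r hr
  rw [isPres.mk_eq]
  have hcase : letters nIdx r = spNum ∨ ∃ o p q, (o, p, q) ∈ [(1, 6, 11), (6, 11, 1), (11, 1, 6)] ∧
      (letters nIdx r = (o + 4) :: (zW.map (armMap o p q)).reverse ∨
        letters nIdx r = (o + 4) :: (zpW.map (armMap o p q)).reverse) := by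
    simp only [Bimonster.extra, List.mem_cons, List.not_mem_nil, or_false] at hr
    rcases hr with rfl | rfl | rfl | rfl | rfl | rfl | rfl
    · exact Or.inl (by decide +kernel)
    · exact Or.inr ⟨1, 6, 11, by decide, Or.inl (by decide +kernel)⟩
    · exact Or.inr ⟨1, 6, 11, by decide, Or.inr (by decide +kernel)⟩
    · exact Or.inr ⟨6, 11, 1, by decide, Or.inr (by decide +kernel)⟩
    · exact Or.inr ⟨6, 11, 1, by decide, Or.inl (by decide +kernel)⟩
    · exact Or.inr ⟨11, 1, 6, by decide, Or.inl (by decide +kernel)⟩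
    · exact Or.inr ⟨11, 1, 6, by decide, Or.inr (by decide +kernel)⟩
  rcases hcase with e | ⟨o, p, q, h, e | e⟩ <;> rw [e]
  · exact node_spider
  all_goals rw [show ∀ x w, wprod node (x :: w) = node x * wprod node w from fun x w => by simp [wprod],
    wprod_reverse node isPres.gen_mul_self]
  · rw [← (arm_relation h).1, mul_inv_cancel]
  · rw [← (arm_relation h).2, mul_inv_cancel]

end CfsgLib.Trans3.Spider
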