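import Cfsg.Agent.Lib.Trans3.Spider.Seven
import Cfsg.Agent.Lib.Trans3.Spider.Data.UE.Main
import Cfsg.Agent.Lib.Trans3.Spider.Data.ZE.Main
import Cfsg.Agent.Lib.Trans3.Spider.Data.LE.Main
import Cfsg.Agent.Lib.Trans3.Spider.Data.OM.Main
import Cfsg.Agent.Lib.Trans3.Spider.Data.KH.Main
import Cfsg.Agent.Lib.Trans3.Spider.Data.FP.Main
import Cfsg.Agent.Lib.Trans3.Spider.Data.PL.Main

/-!
# The end node of an arm is the ninth power of a Coxeter element

For the arms `i, j, k` with the spider relation: `z_ij = z_ik` commutes with all nodes near the centre,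
`(e z)³ = 1` and `f = z`.
-/

set_option autoImplicit false
set_option maxRecDepth 100000

namespace CfsgLib.Trans3.Spider

open CfsgLib.InvChar.Coset

/-- The sign value of a generator. -/
abbrev odd1 : Multiplicative (ZMod 2) := Multiplicative.ofAdd 1

/-- The relations among the local letters. -/
structure Arms {G : Type*} [Group G] (s : ℕ → G) : Prop where
  sq : ∀ x, s x * s x = 1
  cox : ∀ x < 11, ∀ y < 11, (s x * s y) ^ lab11 x y = 1
  spider : wprod s spW = 1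
  sign : ∃ χ : G →* Multiplicative (ZMod 2), ∀ x < 11, χ (s x) = odd1
  nd : s 3 ≠ s 2
  nd' : s 4 ≠ s 3

/-- The letters after exchanging the arms `j` and `k`. -/
def flip8 (x : ℕ) : ℕ := [0, 1, 2, 3, 4, 7, 8, 5].getD x x

theorem chi_wprod {G : Type*} [Group G] {s : ℕ → G} {χ : G →* Multiplicative (ZMod 2)}
    (hχ : ∀ x < 11, χ (s x) = odd1) : ∀ w : List ℕ, (∀ x ∈ w, x < 11) →
    χ (wprod s w) = odd1 ^ w.length
  | [], _ => by simp [wprod]
  | x :: w, h => by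
    rw [show wprod s (x :: w) = s x * wprod s w by simp [wprod], map_mul, hχ x (h x (by simp)),
      chi_wprod hχ w fun y hy => h y (List.mem_cons_of_mem _ hy), List.length_cons, pow_succ']

section

variable {G : Type*} [Group G] {s : ℕ → G} (h : Arms s)
include h

theorem Arms.comm {x y : ℕ} (hx : x < 11) (hy : y < 11) (hl : lab11 x y = 2) :
    Commute (s x) (s y) :=
  comm_of_pow (h.sq x) (h.sq y) (hl ▸ h.cox x hx y hy)

theorem Arms.comm_word {x : ℕ} {w : List ℕ} (hx : x < 11)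
    (hw : ∀ y ∈ w, y < 11 ∧ (lab11 x y = 2 ∨ x = y)) : Commute (s x) (wprod s w) :=
  commute_wprod s w fun y hy => by
    obtain ⟨hy', h2 | rfl⟩ := hw y hy
    · exact h.comm hx hy' h2
    · exact Commute.refl _

theorem Arms.cox8 : Cox8 s :=
  ⟨h.sq, fun x hx y hy => h.cox x (by omega) y (by omega), h.nd⟩

theorem Arms.cox8_flip : Cox8 (fun x => s (flip8 x)) := by
  refine ⟨fun x => h.sq _, ?_, h.nd⟩
  have hd : ∀ x < 8, ∀ y < 8, flip8 x < 11 ∧ flip8 y < 11 ∧ lab11 (flip8 x) (flip8 y) = lab11 x y := by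
    decide
  intro x hx y hy
  obtain ⟨a, b, c⟩ := hd x hx y hy
  exact c ▸ h.cox _ a _ b

theorem Arms.coxRel {extra : List (List ℕ)} {emb : List ℕ} (he : ∀ x ∈ emb, x < 11)
    (hx : ∀ w ∈ extra, wprod s w = 1) : CoxRel s extra emb :=
  ⟨h.sq, fun x hx y hy => h.cox x (he x hx) y (he y hy), hx⟩

theorem Arms.spRel {emb : List ℕ} (he : ∀ x ∈ emb, x < 11) : CoxRel s [spW] emb :=
  h.coxRel he fun w hw => by rw [List.mem_singleton] at hw; rw [hw]; exact h.spider

theorem Arms.zp_eq : wprod (fun x => s (flip8 x)) zW = wprod s zpW := by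
  rw [show zpW = zW.map flip8 by decide]
  simp [wprod, List.map_map, Function.comp_def]

theorem Arms.z_comm_ck : Commute (wprod s zW) (s 8) := by
  obtain ⟨χ, hχ⟩ := h.sign
  let u := wprod s (zW ++ [8] ++ zW.reverse ++ [8])
  have hu : u ∈ gens s [0, 1, 2, 3, 5, 6, 7] := by
    refine goal_mem (h.spRel (emb := UE.emb) (by decide)) (W := zW ++ [8] ++ zW.reverse ++ [8])
      (by decide +kernel) (fun r hr => ?_) UE.nf_le UE.facts_ok UE.goal_ok le_rfl (by decide +kernel)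
      (by decide +kernel)
    obtain ⟨h1, h2⟩ := (by decide : ∀ r ∈ UE.subs, (∀ x ∈ r, x < UE.emb.length) ∧
      ∀ y ∈ r.map (UE.emb.getD · 0), y ∈ [0, 1, 2, 3, 5, 6, 7]) r hr
    rw [wprod_loc s r h1]; exact wprod_mem_gens s _ h2
  have hc : ∀ x ∈ [3, 2, 1, 0, 5, 6], Commute (s x) u := by
    intro x hx
    obtain ⟨hx1, hx2, hx3⟩ := (by decide : ∀ x ∈ [3, 2, 1, 0, 5, 6],
      x < 11 ∧ lab11 x 8 = 2 ∧ x ∈ [0, 1, 2, 3, 5, 6, 7]) x hx
    have c1 := (h.cox8.z_comm hx3).symm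
    have c2 := h.comm hx1 (y := 8) (by omega) hx2
    simp only [u, wprod_append, wprod_reverse s h.sq, show wprod s [8] = s 8 by simp [wprod]]
    exact ((c1.mul_right c2).mul_right c1.inv_right).mul_right c2
  rcases h.cox8.eq_one_or_z hu hc with e | e
  · simp only [u, wprod_append, wprod_reverse s h.sq, show wprod s [8] = s 8 by simp [wprod]] at e
    have h2 := eq_inv_of_mul_eq_one_left e
    rw [inv_eq_of_mul_eq_one_right (h.sq 8), mul_inv_eq_iff_eq_mul] at h2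
    exact h2
  · have h1 : χ u = χ (wprod s zW) := by rw [e]
    rw [chi_wprod hχ _ (by decide), chi_wprod hχ _ (by decide)] at h1
    exact absurd h1 (by decide)

theorem Arms.z_eq_zp : wprod s zW = wprod s zpW := by
  obtain ⟨χ, hχ⟩ := h.sign
  have hz : wprod s zW ∈ gens s [0, 1, 2, 3, 5, 7, 8] := by
    refine goal_mem (h.spRel (emb := ZE.emb) (by decide)) (W := zW) (by decide +kernel) (fun r hr => ?_)
      ZE.nf_le ZE.facts_ok ZE.goal_ok le_rfl (by decide +kernel) (by decide +kernel)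
    obtain ⟨h1, h2⟩ := (by decide : ∀ r ∈ ZE.subs, (∀ x ∈ r, x < ZE.emb.length) ∧
      ∀ y ∈ r.map (ZE.emb.getD · 0), y ∈ [0, 1, 2, 3, 5, 7, 8]) r hr
    rw [wprod_loc s r h1]; exact wprod_mem_gens s _ h2
  have hz' : wprod s zW ∈ gens (fun x => s (flip8 x)) [0, 1, 2, 3, 5, 6, 7] := by
    refine Subgroup.closure_mono ?_ hz
    rintro g ⟨x, hx, rfl⟩
    obtain ⟨y, hy, e⟩ := (by decide : ∀ x ∈ [0, 1, 2, 3, 5, 7, 8],
      ∃ y ∈ [0, 1, 2, 3, 5, 6, 7], flip8 y = x) x hx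
    exact ⟨y, hy, show s (flip8 y) = s x by rw [e]⟩
  have hcz : ∀ x ∈ [3, 2, 1, 0, 5, 6], Commute (s (flip8 x)) (wprod s zW) := by
    intro x hx
    rcases (by decide : ∀ x ∈ [3, 2, 1, 0, 5, 6], flip8 x ∈ [0, 1, 2, 3, 5, 6, 7] ∨ flip8 x = 8) x hx
      with hy | hy
    · exact (h.cox8.z_comm hy).symm
    · rw [hy]; exact h.z_comm_ck.symm
  rcases h.cox8_flip.eq_one_or_z hz' hcz with e | e
  · have h1 : χ (wprod s zW) = χ 1 := by rw [e]
    rw [chi_wprod hχ _ (by decide), map_one] at h1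
    exact absurd h1 (by decide)
  · rw [e, h.zp_eq]

theorem Arms.z_comm {x : ℕ} (hx : x ∈ [0, 1, 2, 3, 5, 6, 7, 8, 9]) : Commute (wprod s zW) (s x) := by
  rcases (by decide : ∀ x ∈ [0, 1, 2, 3, 5, 6, 7, 8, 9],
    x ∈ [0, 1, 2, 3, 5, 6, 7] ∨ x = 8 ∨ x = 9) x hx with h7 | rfl | rfl
  · exact h.cox8.z_comm h7
  · exact h.z_comm_ck
  · rw [h.z_eq_zp]
    exact (h.comm_word (by omega) (by decide)).symm

/-- The subgroup `a, b, c` of all arms and `d` of arm `i` meets the centre in `1` and `z`. -/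
theorem Arms.eq_one_or_z {k : G} (hk : k ∈ gens s [0, 1, 2, 3, 5, 6, 7, 8])
    (hc : ∀ x ∈ [0, 1, 2, 3, 5, 6, 7], Commute (s x) k) : k = 1 ∨ k = wprod s zW := by
  refine h.cox8.eq_one_or_z ?_ fun x hx => hc x (by simp at hx ⊢; tauto)
  refine fixed_mem (h.spRel (emb := LE.emb) (by decide)) LE.covered (by decide) (by decide +kernel)
    (fun r hr => ?_) LE.fixed LE.fixed_ok rfl (by decide) hk fun x hx => ?_
  · obtain ⟨h1, h2⟩ := (by decide : ∀ r ∈ LE.subs, (∀ x ∈ r, x < LE.emb.length) ∧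
      ∀ y ∈ r.map (LE.emb.getD · 0), y ∈ [0, 1, 2, 3, 5, 6, 7]) r hr
    rw [wprod_loc s r h1]; exact wprod_mem_gens s _ h2
  · obtain ⟨hl, hm⟩ := (by decide : ∀ x ∈ LE.fixed.xs, x < LE.emb.length ∧
      LE.emb.getD x 0 ∈ [0, 1, 2, 3, 5, 6, 7]) x hx
    rw [loc, if_pos hl]; exact hc _ hm

variable (hj : ∀ x ∈ [0, 1, 2, 5, 6, 7, 8, 9], Commute (wprod s zjW) (s x))
  (hj2 : wprod s zjW * wprod s zjW = 1)
include hj hj2

theorem Arms.cube : (s 4 * wprod s zW) ^ 3 = 1 := by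
  obtain ⟨χ, hχ⟩ := h.sign
  obtain ⟨e, he⟩ : ∃ e, s 4 = e := ⟨_, rfl⟩
  obtain ⟨z, hz⟩ : ∃ z, wprod s zW = z := ⟨_, rfl⟩
  obtain ⟨zj, hzj⟩ : ∃ zj, wprod s zjW = zj := ⟨_, rfl⟩
  rw [he, hz]
  have hom : wprod s omW = (e * z) ^ 3 := by
    rw [omW, wprod_rpt, ← hz, ← he]; simp [wprod]
  have ee : e * e = 1 := he ▸ h.sq 4
  have zz : z * z = 1 := hz ▸ h.cox8.z_sq
  rw [hzj] at hj2
  have hj' : ∀ x ∈ [0, 1, 2, 3, 4, 5, 6, 7, 8, 9], Commute zj (s x) := by
    intro x hx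
    rw [← hzj]
    rcases (by decide : ∀ x ∈ [0, 1, 2, 3, 4, 5, 6, 7, 8, 9],
      x ∈ [0, 1, 2, 5, 6, 7, 8, 9] ∨ (x < 11 ∧ ∀ y ∈ zjW, y < 11 ∧ (lab11 x y = 2 ∨ x = y))) x hx
      with hx | ⟨hx1, hx2⟩
    · exact hj x hx
    · exact (h.comm_word hx1 hx2).symm
  have hK : (e * z) ^ 3 ∈ gens s [0, 1, 2, 3, 5, 6, 7, 8, 9] := by
    rw [← hom]
    refine goal_mem (h.coxRel (extra := [qW]) (emb := OM.emb) (by decide) fun w hw => ?_) (W := omW)
      (by decide +kernel) (fun r hr => ?_) OM.nf_le OM.facts_ok OM.goal_ok le_rfl (by decide +kernel)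
      (by decide +kernel)
    · rw [List.mem_singleton] at hw
      rw [hw, qW, wprod_append, wprod_reverse s h.sq, h.z_eq_zp, mul_inv_cancel]
    · obtain ⟨h1, h2⟩ := (by decide : ∀ r ∈ OM.subs, (∀ x ∈ r, x < OM.emb.length) ∧
        ∀ y ∈ r.map (OM.emb.getD · 0), y ∈ [0, 1, 2, 3, 5, 6, 7, 8, 9]) r hr
      rw [wprod_loc s r h1]; exact wprod_mem_gens s _ h2
  have hcom : ∀ x ∈ [0, 1, 2, 3, 5, 6, 7, 8, 9], Commute (s x) ((e * z) ^ 3) := by
    intro x hx
    rcases (by decide : ∀ x ∈ [0, 1, 2, 3, 5, 6, 7, 8, 9], x = 3 ∨ (x < 11 ∧ lab11 x 4 = 2)) x hx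
      with rfl | ⟨hx1, hx2⟩
    · rw [← hom]
      exact (h.cox8.commute_of_reduces (ms := BraidData.mvOmD) (by decide +kernel)).symm
    · exact ((he ▸ h.comm hx1 (y := 4) (by omega) hx2).mul_right
        ((hz ▸ h.z_comm hx).symm)).pow_right 3
  have hH : (e * z) ^ 3 ∈ gens s [0, 1, 2, 3, 5, 6, 7, 8] ⊔ Subgroup.zpowers zj := by
    refine fixed_mem (h.spRel (emb := KH.emb) (by decide)) KH.covered (by decide) (by decide +kernel)
      (fun r hr => ?_) KH.fixed KH.fixed_ok rfl (by decide) hK fun x hx => ?_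
    · obtain ⟨h1, h2⟩ := (by decide : ∀ r ∈ KH.subs, (∀ x ∈ r, x < KH.emb.length) ∧
        (r.map (KH.emb.getD · 0) = zjW ∨ ∀ y ∈ r.map (KH.emb.getD · 0), y ∈ [0, 1, 2, 3, 5, 6, 7, 8])) r hr
      rw [wprod_loc s r h1]
      rcases h2 with h2 | h2
      · rw [h2, hzj]; exact Subgroup.mem_sup_right (Subgroup.mem_zpowers _)
      · exact Subgroup.mem_sup_left (wprod_mem_gens s _ h2)
    · obtain ⟨hl, hm⟩ := (by decide : ∀ x ∈ KH.fixed.xs, x < KH.emb.length ∧
        KH.emb.getD x 0 ∈ [0, 1, 2, 3, 5, 6, 7, 8, 9]) x hx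
      rw [loc, if_pos hl]; exact hcom _ hm
  have hzjz : Commute zj z := hz ▸ commute_wprod s zW fun y hy => hj' y
    ((by decide : ∀ y ∈ zW, y ∈ [0, 1, 2, 3, 4, 5, 6, 7, 8, 9]) y hy)
  have hev : χ ((e * z) ^ 3) = 1 := by
    rw [map_pow, map_mul, ← he, ← hz, hχ 4 (by omega), chi_wprod hχ _ (by decide)]
    decide
  rcases mem_or_mul_mem (fun g hg => commute_of_mem_gens s (fun x hx => hj' x
      ((by decide : ∀ x ∈ [0, 1, 2, 3, 5, 6, 7, 8], x ∈ [0, 1, 2, 3, 4, 5, 6, 7, 8, 9]) x hx)) hg)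
      hj2 hH with hb | hb
  · rcases h.eq_one_or_z hb (fun x hx => hcom x (by simp at hx ⊢; tauto)) with r | r
    · exact r
    · rw [r, chi_wprod hχ _ (by decide)] at hev
      exact absurd hev (by decide)
  · exfalso
    have key : ∀ x ∈ [0, 1, 2, 3, 5, 6, 7], Commute (s x) (zj * (e * z) ^ 3) := fun x hx =>
      ((hj' x (by simp at hx ⊢; tauto)).symm).mul_right (hcom x (by simp at hx ⊢; tauto))
    have hzjodd : χ zj = odd1 ^ zjW.length := by rw [← hzj]; exact chi_wprod hχ _ (by decide)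
    rcases h.eq_one_or_z hb key with r | r
    · have h1 := congrArg χ r
      rw [map_mul, hev, mul_one, map_one, hzjodd] at h1
      exact absurd h1 (by decide)
    rw [hz] at r
    have ei := inv_eq_of_mul_eq_one_right ee
    have zi := inv_eq_of_mul_eq_one_right zz
    have hje : Commute zj e := he ▸ hj' 4 (by decide)
    have r1 : (e * z) ^ 3 = zj * z := by
      have := congrArg (zj * ·) r
      simpa [← mul_assoc, hj2] using this
    have h2 : e * (e * z) ^ 3 * e = ((e * z) ^ 3)⁻¹ := by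
      rw [← inv_pow, mul_inv_rev, ei, zi, pow_succ, pow_two, pow_succ, pow_two]
      simp only [← mul_assoc, ee, one_mul]
    have h3 : e * z * e = z := by
      rw [r1, mul_inv_rev, inv_eq_of_mul_eq_one_right hj2, zi] at h2
      rw [← mul_assoc e zj z, ← hje.eq, mul_assoc zj e z, mul_assoc zj (e * z) e, ← hzjz.eq] at h2
      exact mul_left_cancel h2
    have hez : Commute e z := by
      have := congrArg (· * e) h3
      exact (by simpa [mul_assoc, ee] using this : e * z = z * e)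
    have r2 : e * z = zj * z := by
      rw [← r1, hez.mul_pow, pow_succ e, pow_two, ee, one_mul, pow_succ z, pow_two, zz, one_mul]
    have r3 : e = zj := mul_right_cancel r2
    refine h.nd' ?_
    have hb := braid_of_pow (h.sq 3) (h.sq 4) (h.cox 3 (by omega) 4 (by omega))
    have hde : Commute (s 3) (s 4) := by
      rw [he, r3]; exact (hj' 3 (by decide)).symm
    rw [hde.eq, mul_assoc, h.sq 3, mul_one, mul_assoc, hde.eq, ← mul_assoc, h.sq 4, one_mul] at hb
    exact hb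

theorem Arms.f_eq : s 10 = wprod s zW := by
  obtain ⟨χ, hχ⟩ := h.sign
  have hom := h.cube hj hj2
  have ht : wprod s tW = 1 := by
    rw [tW, wprod_rpt, wprod_append, show wprod s [4] = s 4 by simp [wprod]]
    have e : wprod s zW * s 4 = (s 4 * wprod s zW)⁻¹ := by
      rw [mul_inv_rev, inv_eq_of_mul_eq_one_right (h.sq 4),
        inv_eq_of_mul_eq_one_right h.cox8.z_sq]
    rw [e, inv_pow, hom, inv_one]
  have hq : wprod s qW = 1 := by
    rw [qW, wprod_append, wprod_reverse s h.sq, h.z_eq_zp, mul_inv_cancel]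
  have hrel : ∀ w ∈ [qW, tW], wprod s w = 1 := by
    intro w hw
    simp only [List.mem_cons, List.not_mem_nil, or_false] at hw
    rcases hw with rfl | rfl
    · exact hq
    · exact ht
  have hP : s 10 ∈ gens s [0, 1, 2, 3, 4, 5, 6, 7, 8] := by
    have := goal_mem (h.coxRel (extra := [qW, tW]) (emb := FP.emb) (by decide) hrel) (W := [10])
      (H := gens s [0, 1, 2, 3, 4, 5, 6, 7, 8]) (by decide +kernel) (fun r hr => ?_) FP.nf_le
      FP.facts_ok FP.goal_ok le_rfl (by decide +kernel) (by decide +kernel)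
    · simpa [wprod] using this
    · obtain ⟨h1, h2⟩ := (by decide : ∀ r ∈ FP.subs, (∀ x ∈ r, x < FP.emb.length) ∧
        ∀ y ∈ r.map (FP.emb.getD · 0), y ∈ [0, 1, 2, 3, 4, 5, 6, 7, 8]) r hr
      rw [wprod_loc s r h1]; exact wprod_mem_gens s _ h2
  have hf : ∀ x ∈ [0, 1, 2, 3, 5, 6, 7, 8], Commute (s x) (s 10) := by
    intro x hx
    obtain ⟨h1, h2⟩ := (by decide : ∀ x ∈ [0, 1, 2, 3, 5, 6, 7, 8], x < 11 ∧ lab11 x 10 = 2) x hx
    exact h.comm h1 (by omega) h2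
  have hL : s 10 ∈ gens s [0, 1, 2, 3, 5, 6, 7, 8] := by
    refine fixed_mem (h.coxRel (extra := [qW, tW]) (emb := PL.emb) (by decide) hrel) PL.covered
      (by decide) (by decide +kernel) (fun r hr => ?_) PL.fixed PL.fixed_ok rfl (by decide) hP
      fun x hx => ?_
    · obtain ⟨h1, h2⟩ := (by decide : ∀ r ∈ PL.subs, (∀ x ∈ r, x < PL.emb.length) ∧
        ∀ y ∈ r.map (PL.emb.getD · 0), y ∈ [0, 1, 2, 3, 5, 6, 7, 8]) r hr
      rw [wprod_loc s r h1]; exact wprod_mem_gens s _ h2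
    · obtain ⟨hl, hm⟩ := (by decide : ∀ x ∈ PL.fixed.xs, x < PL.emb.length ∧
        PL.emb.getD x 0 ∈ [0, 1, 2, 3, 5, 6, 7, 8]) x hx
      rw [loc, if_pos hl]; exact hf _ hm
  rcases h.eq_one_or_z hL (fun x hx => hf x (by simp at hx ⊢; tauto)) with r | r
  · have h1 := congrArg χ r
    rw [hχ 10 (by omega), map_one] at h1
    exact absurd h1 (by decide)
  · exact r

end

end CfsgLib.Trans3.Spider
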